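import Mathlib
import Groth.Prelude.Def_DRing2
import Groth.Agent.Lib.Helper5.HomCx.Uncurry

set_option autoImplicit false
set_option linter.unusedSectionVars false
set_option linter.unusedVariables false
universe u
open CategoryTheory CategoryTheory.Limits MonoidalCategory

namespace Groth.Agent.Lib.Helper5.ExactPair

open Groth.Agent.Lib.Helper5.HomCx

variable {R : Type u} [CommRing R] (K₁ K₂ K₃ : DRing.Cx R)

theorem associator_hom_f (j : ℤ) :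
    (α_ K₁ K₂ K₃).hom.f j = (GradedObject.Monoidal.associator K₁.X K₂.X K₃.X).hom j := rfl

theorem ι_associator_hom (i₁ i₂ i₃ i₁₂ i₂₃ j : ℤ) (h₁₂ : i₁ + i₂ = i₁₂) (h₂₃ : i₂ + i₃ = i₂₃)
    (h : i₁ + i₂ + i₃ = j) :
    (HomologicalComplex.ιTensorObj K₁ K₂ i₁ i₂ i₁₂ h₁₂ ▷ K₃.X i₃) ≫
        HomologicalComplex.ιTensorObj (K₁ ⊗ K₂) K₃ i₁₂ i₃ j (by omega) ≫ (α_ K₁ K₂ K₃).hom.f j =
      (α_ (K₁.X i₁) (K₂.X i₂) (K₃.X i₃)).hom ≫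
        (K₁.X i₁ ◁ HomologicalComplex.ιTensorObj K₂ K₃ i₂ i₃ i₂₃ h₂₃) ≫
          HomologicalComplex.ιTensorObj K₁ (K₂ ⊗ K₃) i₁ i₂₃ j (by omega) := by
  have := GradedObject.Monoidal.ιTensorObj₃'_associator_hom K₁.X K₂.X K₃.X i₁ i₂ i₃ j h
  rw [GradedObject.Monoidal.ιTensorObj₃'_eq K₁.X K₂.X K₃.X i₁ i₂ i₃ j h i₁₂ h₁₂,
    GradedObject.Monoidal.ιTensorObj₃_eq K₁.X K₂.X K₃.X i₁ i₂ i₃ j h i₂₃ h₂₃] at this
  rw [Category.assoc] at this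
  exact this


theorem ι_associator_inv (i₁ i₂ i₃ i₁₂ i₂₃ j : ℤ) (h₁₂ : i₁ + i₂ = i₁₂) (h₂₃ : i₂ + i₃ = i₂₃)
    (h : i₁ + i₂ + i₃ = j) :
    (K₁.X i₁ ◁ HomologicalComplex.ιTensorObj K₂ K₃ i₂ i₃ i₂₃ h₂₃) ≫
        HomologicalComplex.ιTensorObj K₁ (K₂ ⊗ K₃) i₁ i₂₃ j (by omega) ≫ (α_ K₁ K₂ K₃).inv.f j =
      (α_ (K₁.X i₁) (K₂.X i₂) (K₃.X i₃)).inv ≫
        (HomologicalComplex.ιTensorObj K₁ K₂ i₁ i₂ i₁₂ h₁₂ ▷ K₃.X i₃) ≫
          HomologicalComplex.ιTensorObj (K₁ ⊗ K₂) K₃ i₁₂ i₃ j (by omega) := by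
  have := GradedObject.Monoidal.ιTensorObj₃_associator_inv K₁.X K₂.X K₃.X i₁ i₂ i₃ j h
  rw [GradedObject.Monoidal.ιTensorObj₃'_eq K₁.X K₂.X K₃.X i₁ i₂ i₃ j h i₁₂ h₁₂,
    GradedObject.Monoidal.ιTensorObj₃_eq K₁.X K₂.X K₃.X i₁ i₂ i₃ j h i₂₃ h₂₃] at this
  rw [Category.assoc] at this
  exact this

/-- the unit complex -/
noncomputable abbrev T (R : Type u) [CommRing R] : DRing.Cx R := 𝟙_ (DRing.Cx R)

/-- the degree-zero term of the unit complex is the unit module -/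
noncomputable def uIso (R : Type u) [CommRing R] : (T R).X 0 ≅ 𝟙_ (ModuleCat.{u} R) :=
  HomologicalComplex.singleObjXSelf (ComplexShape.up ℤ) 0 (𝟙_ (ModuleCat.{u} R))

theorem isZero_T (s : ℤ) (hs : s ≠ 0) : IsZero ((T R).X s) :=
  HomologicalComplex.isZero_single_obj_X (ComplexShape.up ℤ) 0 (𝟙_ (ModuleCat.{u} R)) s hs

theorem leftUnitor_inv_f (K : DRing.Cx R) (q : ℤ) :
    (λ_ K).inv.f q = (λ_ (K.X q)).inv ≫ ((uIso R).inv ▷ K.X q) ≫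
      HomologicalComplex.ιTensorObj (T R) K 0 q q (zero_add q) :=
  HomologicalComplex.leftUnitor'_inv K q

theorem rightUnitor_inv_f (K : DRing.Cx R) (q : ℤ) :
    (ρ_ K).inv.f q = (ρ_ (K.X q)).inv ≫ (K.X q ◁ (uIso R).inv) ≫
      HomologicalComplex.ιTensorObj K (T R) q 0 q (add_zero q) :=
  HomologicalComplex.rightUnitor'_inv K q

end Groth.Agent.Lib.Helper5.ExactPair
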