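import Mathlib

set_option autoImplicit false
universe u v

namespace Groth.Agent.Lib.Helper5.ExactPair

/-- dual basis lemma, finite form -/
theorem finite_projective_of_dual_basis {R : Type u} [CommRing R] {P : Type v} [AddCommGroup P]
    [Module R P] {J : Type*} (S : Finset J) (m : J → P) (r : J → P →ₗ[R] R)
    (h : ∀ x : P, x = ∑ j ∈ S, r j x • m j) : Module.Finite R P ∧ Module.Projective R P := by
  classical
  let i : P →ₗ[R] (S → R) := LinearMap.pi (fun j => r j.1)
  let s : (S → R) →ₗ[R] P := ∑ j : S, (LinearMap.proj j).smulRight (m j.1)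
  have hsi : s ∘ₗ i = LinearMap.id := by
    apply LinearMap.ext
    intro x
    rw [LinearMap.comp_apply, LinearMap.id_apply]
    change (∑ j : S, (LinearMap.proj j).smulRight (m j.1)) (i x) = x
    rw [LinearMap.sum_apply]
    conv_rhs => rw [h x]
    rw [← Finset.sum_coe_sort S (fun j => r j x • m j)]
    rfl
  refine ⟨?_, Module.Projective.of_split i s hsi⟩
  refine Module.Finite.of_surjective s ?_
  intro x
  exact ⟨i x, LinearMap.congr_fun hsi x⟩

end Groth.Agent.Lib.Helper5.ExactPair
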