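import Mathlib
import Groth.Agent.Lib.Helper5.ExactPair.Assoc

set_option autoImplicit false
set_option linter.unusedSectionVars false
set_option linter.unusedVariables false
universe u
open CategoryTheory CategoryTheory.Limits MonoidalCategory

namespace Groth.Agent.Lib.Helper5.ExactPair

open Groth.Agent.Lib.Helper5.HomCx

variable {R : Type u} [CommRing R] (M N : DRing.Cx R) [ExactPairing M N]

/-- the coevaluation in degree zero -/
noncomputable def η₀ : 𝟙_ (ModuleCat.{u} R) ⟶ (M ⊗ N).X 0 := (uIso R).inv ≫ (η_ M N).f 0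

theorem keyM (q : ℤ) :
    (λ_ (M.X q)).inv ≫ (η₀ M N ▷ M.X q) ≫
      HomologicalComplex.ιTensorObj (M ⊗ N) M 0 q q (zero_add q) ≫
        (α_ M N M).hom.f q ≫ (M ◁ ε_ M N).f q ≫ (ρ_ M).hom.f q = 𝟙 (M.X q) := by
  have h : (λ_ M).inv ≫ (η_ M N ▷ M) ≫ (α_ M N M).hom ≫ (M ◁ ε_ M N) ≫ (ρ_ M).hom = 𝟙 M := by
    have := ExactPairing.evaluation_coevaluation M N
    rw [← Category.assoc (η_ M N ▷ M), ← Category.assoc ((η_ M N ▷ M) ≫ (α_ M N M).hom),
      Category.assoc (η_ M N ▷ M), this]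
    simp
  have h2 := congrArg (fun φ => φ.f q) h
  rw [HomologicalComplex.comp_f, HomologicalComplex.comp_f, HomologicalComplex.comp_f,
    HomologicalComplex.comp_f, HomologicalComplex.id_f, leftUnitor_inv_f] at h2
  rw [← h2, η₀, comp_whiskerRight]
  simp only [Category.assoc]
  congr 2
  have e := ι_whiskerRight (η_ M N) M 0 q q (zero_add q)
  exact ((Category.assoc _ _ _).symm.trans ((congrArg (· ≫ _) e.symm).trans
    (Category.assoc _ _ _)))


/-- the contribution of the `(p, p')` component of the coevaluation -/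
noncomputable def ΨM (p p' q : ℤ) (h : p + p' = 0) :
    (M.X p ⊗ N.X p') ⊗ M.X q ⟶ M.X q :=
  (HomologicalComplex.ιTensorObj M N p p' 0 h ▷ M.X q) ≫
    HomologicalComplex.ιTensorObj (M ⊗ N) M 0 q q (zero_add q) ≫
      (α_ M N M).hom.f q ≫ (M ◁ ε_ M N).f q ≫ (ρ_ M).hom.f q

theorem ΨM_eq (p p' q s : ℤ) (h : p + p' = 0) (hs : p' + q = s) :
    ΨM M N p p' q h = (α_ (M.X p) (N.X p') (M.X q)).hom ≫
      (M.X p ◁ (HomologicalComplex.ιTensorObj N M p' q s hs ≫ (ε_ M N).f s)) ≫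
        HomologicalComplex.ιTensorObj M (T R) p s q (by omega) ≫ (ρ_ M).hom.f q := by
  dsimp only [ΨM]
  have e1 := ι_associator_hom M N M p p' q 0 s q h hs (by omega)
  have e2 := ι_whiskerLeft M (ε_ M N) p s q (by omega)
  rw [← Category.assoc, ← Category.assoc, Category.assoc (_ ▷ _), e1, Category.assoc,
    Category.assoc, ← Category.assoc (HomologicalComplex.ιTensorObj M (N ⊗ M) p s q _), e2,
    whiskerLeft_comp, Category.assoc, Category.assoc]

theorem ΨM_zero (p p' q : ℤ) (h : p + p' = 0) (hpq : p ≠ q) : ΨM M N p p' q h = 0 := by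
  rw [ΨM_eq M N p p' q (p' + q) h rfl,
    (isZero_T (p' + q) (by omega)).eq_of_tgt ((ε_ M N).f (p' + q)) 0, comp_zero,
    MonoidalPreadditive.whiskerLeft_zero, zero_comp, comp_zero]

theorem ι_rightUnitor_hom (K : DRing.Cx R) (q : ℤ) :
    HomologicalComplex.ιTensorObj K (T R) q 0 q (add_zero q) ≫ (ρ_ K).hom.f q =
      (K.X q ◁ (uIso R).hom) ≫ (ρ_ (K.X q)).hom := by
  have h := rightUnitor_inv_f K q
  have h2 : (ρ_ K).inv.f q ≫ (ρ_ K).hom.f q = 𝟙 _ := by
    rw [← HomologicalComplex.comp_f, Iso.inv_hom_id, HomologicalComplex.id_f]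
  rw [h, Category.assoc, Category.assoc] at h2
  rw [← cancel_epi (K.X q ◁ (uIso R).inv), ← cancel_epi (ρ_ (K.X q)).inv, h2]
  simp [← MonoidalCategory.whiskerLeft_comp_assoc]


omit [ExactPairing M N] in
theorem iSup_range_ι :
    (⨆ p : ℤ, LinearMap.range
      (HomologicalComplex.ιTensorObj M N p (-p) 0 (by omega)).hom) = ⊤ := by
  set S := ⨆ p : ℤ, LinearMap.range
    (HomologicalComplex.ιTensorObj M N p (-p) 0 (by omega)).hom with hS
  have h0 : (ModuleCat.ofHom S.mkQ : (M ⊗ N).X 0 ⟶ ModuleCat.of R (_ ⧸ S)) = 0 := by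
    apply HomologicalComplex.mapBifunctor.hom_ext
    intro p p' h
    have h' : p + p' = 0 := h
    obtain rfl : p' = -p := by omega
    refine Eq.trans ?_ comp_zero.symm
    apply ModuleCat.hom_ext
    apply LinearMap.ext
    intro x
    change S.mkQ ((HomologicalComplex.ιTensorObj M N p (-p) 0 (by omega)).hom x) = 0
    rw [Submodule.mkQ_apply, Submodule.Quotient.mk_eq_zero]
    exact (le_iSup (fun p : ℤ => LinearMap.range
      (HomologicalComplex.ιTensorObj M N p (-p) 0 (by omega)).hom) p) ⟨x, rfl⟩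
  rw [eq_top_iff]
  intro y _
  have h1 : S.mkQ y = 0 := by
    have := congrArg (fun φ => φ.hom y) h0
    exact this
  rwa [Submodule.mkQ_apply, Submodule.Quotient.mk_eq_zero] at h1


/-- the functional `x ↦ ε (n ⊗ x)` -/
noncomputable def rM (q : ℤ) (n : N.X (-q)) : M.X q →ₗ[R] R :=
  ((uIso R).hom).hom ∘ₗ ((ε_ M N).f 0).hom ∘ₗ
    (HomologicalComplex.ιTensorObj N M (-q) q 0 (by omega)).hom ∘ₗ
      (TensorProduct.mk R (N.X (-q)) (M.X q) n)

omit [ExactPairing M N] in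
theorem assoc_whisker_apply {A B C D' : ModuleCat.{u} R} (g : B ⊗ C ⟶ D')
    (v : D' ⟶ 𝟙_ (ModuleCat.{u} R)) (a : A) (b : B) (c : C) :
    ((α_ A B C).hom ≫ (A ◁ (g ≫ v)) ≫ (ρ_ A).hom).hom ((a ⊗ₜ[R] b) ⊗ₜ[R] c) =
      (v.hom (g.hom (b ⊗ₜ[R] c)) : R) • a := by
  rw [ModuleCat.hom_comp, ModuleCat.hom_comp, LinearMap.comp_apply, LinearMap.comp_apply,
    ModuleCat.MonoidalCategory.associator_hom_apply,
    ModuleCat.MonoidalCategory.whiskerLeft_apply,
    ModuleCat.MonoidalCategory.rightUnitor_hom_apply]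
  rfl

theorem ΨM_eq' (q : ℤ) :
    ΨM M N q (-q) q (by omega) = (α_ (M.X q) (N.X (-q)) (M.X q)).hom ≫
      (M.X q ◁ ((HomologicalComplex.ιTensorObj N M (-q) q 0 (by omega) ≫ (ε_ M N).f 0) ≫
        (uIso R).hom)) ≫ (ρ_ (M.X q)).hom := by
  have h1 := ΨM_eq M N q (-q) q 0 (by omega) (by omega)
  have h2 := ι_rightUnitor_hom M q
  refine h1.trans ?_
  rw [h2, MonoidalCategory.whiskerLeft_comp (M.X q) _ (uIso R).hom, Category.assoc]

theorem ΨM_apply (q : ℤ) (m : M.X q) (n : N.X (-q)) (x : M.X q) :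
    (ΨM M N q (-q) q (by omega)).hom ((m ⊗ₜ[R] n) ⊗ₜ[R] x) = rM M N q n x • m := by
  rw [ΨM_eq' M N q]
  exact assoc_whisker_apply _ _ m n x

end Groth.Agent.Lib.Helper5.ExactPair
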