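import Mathlib
import Groth.Agent.Lib.Helper5.ExactPair.PairM
import Groth.Agent.Lib.Helper5.ExactPair.DualBasis

set_option autoImplicit false
set_option linter.unusedSectionVars false
set_option linter.unusedVariables false
universe u
open CategoryTheory CategoryTheory.Limits MonoidalCategory

namespace Groth.Agent.Lib.Helper5.ExactPair

open Groth.Agent.Lib.Helper5.HomCx

variable {R : Type u} [CommRing R] (M N : DRing.Cx R)

theorem exists_decomp (e : (M ⊗ N).X 0) :
    ∃ (S : Finset ℤ) (t : ∀ p : ℤ, (M.X p ⊗ N.X (-p) : ModuleCat.{u} R)),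
      e = ∑ p ∈ S, (HomologicalComplex.ιTensorObj M N p (-p) 0 (by omega)).hom (t p) := by
  have he : e ∈ (⨆ p : ℤ, LinearMap.range
      (HomologicalComplex.ιTensorObj M N p (-p) 0 (by omega)).hom) := by
    rw [iSup_range_ι]; trivial
  rw [Submodule.mem_iSup_iff_exists_finsupp] at he
  obtain ⟨f, hf, hsum⟩ := he
  choose t ht using hf
  refine ⟨f.support, t, ?_⟩
  rw [← hsum, Finsupp.sum]
  exact Finset.sum_congr rfl (fun p _ => (ht p).symm)

variable [ExactPairing M N]

theorem eq_sum_ΨM (S : Finset ℤ) (t : ∀ p : ℤ, (M.X p ⊗ N.X (-p) : ModuleCat.{u} R))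
    (he : (η₀ M N).hom (1 : R) =
      ∑ p ∈ S, (HomologicalComplex.ιTensorObj M N p (-p) 0 (by omega)).hom (t p))
    (q : ℤ) (x : M.X q) :
    x = ∑ p ∈ S, (ΨM M N p (-p) q (by omega)).hom (t p ⊗ₜ[R] x) := by
  have h : _ = (𝟙 (M.X q) : M.X q ⟶ M.X q).hom x := congrArg (fun φ => φ.hom x) (keyM M N q)
  rw [ModuleCat.hom_id, LinearMap.id_apply] at h
  conv_lhs => rw [← h]
  rw [ModuleCat.hom_comp, ModuleCat.hom_comp, LinearMap.comp_apply, LinearMap.comp_apply,
    ModuleCat.MonoidalCategory.leftUnitor_inv_apply,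
    ModuleCat.MonoidalCategory.whiskerRight_apply, he, TensorProduct.sum_tmul, map_sum]
  refine Finset.sum_congr rfl (fun p _ => ?_)
  rfl

end Groth.Agent.Lib.Helper5.ExactPair
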