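import Mathlib
import Groth.Agent.Lib.Helper5.ExactPair.PairM2

set_option autoImplicit false
set_option linter.unusedSectionVars false
set_option linter.unusedVariables false
universe u
open CategoryTheory CategoryTheory.Limits MonoidalCategory

namespace Groth.Agent.Lib.Helper5.ExactPair

open Groth.Agent.Lib.Helper5.HomCx

variable {R : Type u} [CommRing R] (M N : DRing.Cx R) [ExactPairing M N]

theorem isZero_M (S : Finset ℤ) (t : ∀ p : ℤ, (M.X p ⊗ N.X (-p) : ModuleCat.{u} R))
    (he : (η₀ M N).hom (1 : R) =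
      ∑ p ∈ S, (HomologicalComplex.ιTensorObj M N p (-p) 0 (by omega)).hom (t p))
    (q : ℤ) (hq : q ∉ S) : IsZero (M.X q) := by
  have : Subsingleton (M.X q) := by
    refine ⟨fun x y => ?_⟩
    have h0 : ∀ z : M.X q, z = 0 := by
      intro z
      rw [eq_sum_ΨM M N S t he q z]
      refine Finset.sum_eq_zero (fun p hp => ?_)
      have hpq : p ≠ q := fun h => hq (h ▸ hp)
      rw [ΨM_zero M N p (-p) q (by omega) hpq]
      rfl
    rw [h0 x, h0 y]
  exact ModuleCat.isZero_of_subsingleton _

theorem exists_eq_ΨM (q : ℤ) :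
    ∃ t' : (M.X q ⊗ N.X (-q) : ModuleCat.{u} R),
      ∀ x : M.X q, x = (ΨM M N q (-q) q (by omega)).hom (t' ⊗ₜ[R] x) := by
  obtain ⟨S, t, he⟩ := exists_decomp M N ((η₀ M N).hom (1 : R))
  by_cases hq : q ∈ S
  · refine ⟨t q, fun x => ?_⟩
    conv_lhs => rw [eq_sum_ΨM M N S t he q x]
    refine Finset.sum_eq_single_of_mem q hq (fun p _ hpq => ?_)
    rw [ΨM_zero M N p (-p) q (by omega) hpq]
    rfl
  · refine ⟨0, fun x => ?_⟩
    have := (isZero_M M N S t he q hq)
    have : Subsingleton (M.X q) := ModuleCat.subsingleton_of_isZero this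
    exact Subsingleton.elim _ _

include N in
theorem finProj_M (q : ℤ) : Module.Finite R (M.X q) ∧ Module.Projective R (M.X q) := by
  obtain ⟨t', ht'⟩ := exists_eq_ΨM M N q
  obtain ⟨S', hS'⟩ := TensorProduct.exists_finset (R := R) (M := M.X q) (N := N.X (-q)) t'
  refine finite_projective_of_dual_basis S' (fun i => i.1) (fun i => rM M N q i.2) (fun x => ?_)
  conv_lhs => rw [ht' x, hS', TensorProduct.sum_tmul, map_sum]
  exact Finset.sum_congr rfl (fun i _ => ΨM_apply M N q i.1 i.2 x)

end Groth.Agent.Lib.Helper5.ExactPair
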