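import Mathlib
import Groth.Agent.Lib.Helper5.ExactPair.PairM2

set_option autoImplicit false
set_option linter.unusedSectionVars false
set_option linter.unusedVariables false
universe u
open CategoryTheory CategoryTheory.Limits MonoidalCategory

namespace Groth.Agent.Lib.Helper5.ExactPair

open Groth.Agent.Lib.Helper5.HomCx

variable {R : Type u} [CommRing R] (M N : DRing.Cx R) [ExactPairing M N]

theorem keyN (q : ℤ) :
    (ρ_ (N.X q)).inv ≫ (N.X q ◁ η₀ M N) ≫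
      HomologicalComplex.ιTensorObj N (M ⊗ N) q 0 q (add_zero q) ≫
        (α_ N M N).inv.f q ≫ (ε_ M N ▷ N).f q ≫ (λ_ N).hom.f q = 𝟙 (N.X q) := by
  have h : (ρ_ N).inv ≫ (N ◁ η_ M N) ≫ (α_ N M N).inv ≫ (ε_ M N ▷ N) ≫ (λ_ N).hom = 𝟙 N := by
    have := ExactPairing.coevaluation_evaluation M N
    rw [← Category.assoc (N ◁ η_ M N), ← Category.assoc ((N ◁ η_ M N) ≫ (α_ N M N).inv),
      Category.assoc (N ◁ η_ M N), this]
    simp
  have h2 := congrArg (fun φ => φ.f q) h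
  rw [HomologicalComplex.comp_f, HomologicalComplex.comp_f, HomologicalComplex.comp_f,
    HomologicalComplex.comp_f, HomologicalComplex.id_f, rightUnitor_inv_f] at h2
  rw [← h2, η₀, MonoidalCategory.whiskerLeft_comp]
  simp only [Category.assoc]
  congr 2
  have e := ι_whiskerLeft N (η_ M N) q 0 q (add_zero q)
  exact ((Category.assoc _ _ _).symm.trans ((congrArg (· ≫ _) e.symm).trans
    (Category.assoc _ _ _)))

/-- the contribution of the `(p, p')` component of the coevaluation -/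
noncomputable def ΨN (p p' q : ℤ) (h : p + p' = 0) :
    N.X q ⊗ (M.X p ⊗ N.X p') ⟶ N.X q :=
  (N.X q ◁ HomologicalComplex.ιTensorObj M N p p' 0 h) ≫
    HomologicalComplex.ιTensorObj N (M ⊗ N) q 0 q (add_zero q) ≫
      (α_ N M N).inv.f q ≫ (ε_ M N ▷ N).f q ≫ (λ_ N).hom.f q

theorem ΨN_eq (p p' q s : ℤ) (h : p + p' = 0) (hs : q + p = s) :
    ΨN M N p p' q h = (α_ (N.X q) (M.X p) (N.X p')).inv ≫
      ((HomologicalComplex.ιTensorObj N M q p s hs ≫ (ε_ M N).f s) ▷ N.X p') ≫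
        HomologicalComplex.ιTensorObj (T R) N s p' q (by omega) ≫ (λ_ N).hom.f q := by
  dsimp only [ΨN]
  have e1 := ι_associator_inv N M N q p p' s 0 q hs h (by omega)
  have e2 := ι_whiskerRight (ε_ M N) N s p' q (by omega)
  rw [← Category.assoc, ← Category.assoc, Category.assoc (_ ◁ _), e1, Category.assoc,
    Category.assoc, ← Category.assoc (HomologicalComplex.ιTensorObj (N ⊗ M) N s p' q _), e2,
    comp_whiskerRight, Category.assoc, Category.assoc]

theorem ΨN_zero (p p' q : ℤ) (h : p + p' = 0) (hpq : p' ≠ q) : ΨN M N p p' q h = 0 := by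
  rw [ΨN_eq M N p p' q (q + p) h rfl,
    (isZero_T (q + p) (by omega)).eq_of_tgt ((ε_ M N).f (q + p)) 0, comp_zero,
    MonoidalPreadditive.zero_whiskerRight, zero_comp, comp_zero]

theorem ι_leftUnitor_hom (K : DRing.Cx R) (q : ℤ) :
    HomologicalComplex.ιTensorObj (T R) K 0 q q (zero_add q) ≫ (λ_ K).hom.f q =
      ((uIso R).hom ▷ K.X q) ≫ (λ_ (K.X q)).hom := by
  have h := leftUnitor_inv_f K q
  have h2 : (λ_ K).inv.f q ≫ (λ_ K).hom.f q = 𝟙 _ := by
    rw [← HomologicalComplex.comp_f, Iso.inv_hom_id, HomologicalComplex.id_f]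
  rw [h, Category.assoc, Category.assoc] at h2
  rw [← cancel_epi ((uIso R).inv ▷ K.X q), ← cancel_epi (λ_ (K.X q)).inv, h2]
  simp [← MonoidalCategory.comp_whiskerRight_assoc]

/-- the functional `y ↦ ε (y ⊗ m)` -/
noncomputable def rN (q : ℤ) (m : M.X (-q)) : N.X q →ₗ[R] R :=
  ((uIso R).hom).hom ∘ₗ ((ε_ M N).f 0).hom ∘ₗ
    (HomologicalComplex.ιTensorObj N M q (-q) 0 (by omega)).hom ∘ₗ
      (TensorProduct.mk R (N.X q) (M.X (-q))).flip m

omit [ExactPairing M N] in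
theorem assoc_whisker_apply' {A B C D' : ModuleCat.{u} R} (g : A ⊗ B ⟶ D')
    (v : D' ⟶ 𝟙_ (ModuleCat.{u} R)) (a : A) (b : B) (c : C) :
    ((α_ A B C).inv ≫ ((g ≫ v) ▷ C) ≫ (λ_ C).hom).hom (a ⊗ₜ[R] (b ⊗ₜ[R] c)) =
      (v.hom (g.hom (a ⊗ₜ[R] b)) : R) • c := by
  rw [ModuleCat.hom_comp, ModuleCat.hom_comp, LinearMap.comp_apply, LinearMap.comp_apply,
    ModuleCat.MonoidalCategory.associator_inv_apply,
    ModuleCat.MonoidalCategory.whiskerRight_apply,
    ModuleCat.MonoidalCategory.leftUnitor_hom_apply]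
  rfl

theorem ΨN_eq' (q : ℤ) :
    ΨN M N (-q) q q (by omega) = (α_ (N.X q) (M.X (-q)) (N.X q)).inv ≫
      (((HomologicalComplex.ιTensorObj N M q (-q) 0 (by omega) ≫ (ε_ M N).f 0) ≫
        (uIso R).hom) ▷ N.X q) ≫ (λ_ (N.X q)).hom := by
  have h1 := ΨN_eq M N (-q) q q 0 (by omega) (by omega)
  have h2 := ι_leftUnitor_hom N q
  refine h1.trans ?_
  rw [h2, MonoidalCategory.comp_whiskerRight _ (uIso R).hom (N.X q), Category.assoc]

theorem ΨN_apply (q : ℤ) (m : M.X (-q)) (n : N.X q) (y : N.X q) :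
    (ΨN M N (-q) q q (by omega)).hom (y ⊗ₜ[R] (m ⊗ₜ[R] n)) = rN M N q m y • n := by
  rw [ΨN_eq' M N q]
  exact assoc_whisker_apply' _ _ y m n

theorem eq_sum_ΨN (S : Finset ℤ) (t : ∀ p : ℤ, (M.X p ⊗ N.X (-p) : ModuleCat.{u} R))
    (he : (η₀ M N).hom (1 : R) =
      ∑ p ∈ S, (HomologicalComplex.ιTensorObj M N p (-p) 0 (by omega)).hom (t p))
    (q : ℤ) (y : N.X q) :
    y = ∑ p ∈ S, (ΨN M N p (-p) q (by omega)).hom (y ⊗ₜ[R] t p) := by
  have h : _ = (𝟙 (N.X q) : N.X q ⟶ N.X q).hom y := congrArg (fun φ => φ.hom y) (keyN M N q)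
  rw [ModuleCat.hom_id, LinearMap.id_apply] at h
  conv_lhs => rw [← h]
  rw [ModuleCat.hom_comp, ModuleCat.hom_comp, LinearMap.comp_apply, LinearMap.comp_apply,
    ModuleCat.MonoidalCategory.rightUnitor_inv_apply,
    ModuleCat.MonoidalCategory.whiskerLeft_apply, he, TensorProduct.tmul_sum, map_sum]
  refine Finset.sum_congr rfl (fun p _ => ?_)
  rfl

end Groth.Agent.Lib.Helper5.ExactPair
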