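import Mathlib
import Groth.Agent.Lib.Helper5.ExactPair.PairM3
import Groth.Agent.Lib.Helper5.ExactPair.PairN

set_option autoImplicit false
set_option linter.unusedSectionVars false
set_option linter.unusedVariables false
universe u
open CategoryTheory CategoryTheory.Limits MonoidalCategory

namespace Groth.Agent.Lib.Helper5.ExactPair

open Groth.Agent.Lib.Helper5.HomCx

variable {R : Type u} [CommRing R] (M N : DRing.Cx R) [ExactPairing M N]

theorem isZero_N (S : Finset ℤ) (t : ∀ p : ℤ, (M.X p ⊗ N.X (-p) : ModuleCat.{u} R))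
    (he : (η₀ M N).hom (1 : R) =
      ∑ p ∈ S, (HomologicalComplex.ιTensorObj M N p (-p) 0 (by omega)).hom (t p))
    (q : ℤ) (hq : -q ∉ S) : IsZero (N.X q) := by
  have : Subsingleton (N.X q) := by
    refine ⟨fun x y => ?_⟩
    have h0 : ∀ z : N.X q, z = 0 := by
      intro z
      rw [eq_sum_ΨN M N S t he q z]
      refine Finset.sum_eq_zero (fun p hp => ?_)
      have hpq : -p ≠ q := fun h => hq (by rw [← h, neg_neg]; exact hp)
      rw [ΨN_zero M N p (-p) q (by omega) hpq]
      rfl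
    rw [h0 x, h0 y]
  exact ModuleCat.isZero_of_subsingleton _

theorem exists_eq_ΨN_aux (p p' : ℤ) (h : p + p' = 0) :
    ∃ t' : (M.X p ⊗ N.X p' : ModuleCat.{u} R),
      ∀ y : N.X p', y = (ΨN M N p p' p' h).hom (y ⊗ₜ[R] t') := by
  obtain rfl : p' = -p := by omega
  obtain ⟨S, t, he⟩ := exists_decomp M N ((η₀ M N).hom (1 : R))
  by_cases hq : p ∈ S
  · refine ⟨t p, fun y => ?_⟩
    conv_lhs => rw [eq_sum_ΨN M N S t he (-p) y]
    refine Finset.sum_eq_single_of_mem p hq (fun p₁ _ hpq => ?_)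
    rw [ΨN_zero M N p₁ (-p₁) (-p) (by omega) (by omega)]
    rfl
  · refine ⟨0, fun y => ?_⟩
    have := (isZero_N M N S t he (-p) (by rwa [neg_neg]))
    have : Subsingleton (N.X (-p)) := ModuleCat.subsingleton_of_isZero this
    exact Subsingleton.elim _ _

theorem exists_eq_ΨN (q : ℤ) :
    ∃ t' : (M.X (-q) ⊗ N.X q : ModuleCat.{u} R),
      ∀ y : N.X q, y = (ΨN M N (-q) q q (by omega)).hom (y ⊗ₜ[R] t') :=
  exists_eq_ΨN_aux M N (-q) q (by omega)

include M in
theorem finProj_N (q : ℤ) : Module.Finite R (N.X q) ∧ Module.Projective R (N.X q) := by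
  obtain ⟨t', ht'⟩ := exists_eq_ΨN M N q
  obtain ⟨S', hS'⟩ := TensorProduct.exists_finset (R := R) (M := M.X (-q)) (N := N.X q) t'
  refine finite_projective_of_dual_basis S' (fun i => i.2) (fun i => rN M N q i.1) (fun y => ?_)
  conv_lhs => rw [ht' y, hS', TensorProduct.tmul_sum, map_sum]
  exact Finset.sum_congr rfl (fun i _ => ΨN_apply M N q i.1 i.2 y)

theorem main :
    (∃ a b : ℤ, DRing.VanishesOutside M a b) ∧ (∃ a b : ℤ, DRing.VanishesOutside N a b) ∧
      DRing.TermwiseFiniteProjective M ∧ DRing.TermwiseFiniteProjective N := by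
  obtain ⟨S, t, he⟩ := exists_decomp M N ((η₀ M N).hom (1 : R))
  obtain ⟨B, hB⟩ : ∃ B : ℤ, ∀ p ∈ S, |p| ≤ B :=
    ⟨∑ p ∈ S, |p|, fun p hp => Finset.single_le_sum (f := fun p : ℤ => |p|)
      (fun i _ => abs_nonneg i) hp⟩
  refine ⟨⟨-B, B, fun i hi => isZero_M M N S t he i (fun hiS => ?_)⟩,
    ⟨-B, B, fun i hi => isZero_N M N S t he i (fun hiS => ?_)⟩,
    fun i => finProj_M M N i, fun i => finProj_N M N i⟩
  · have := hB i hiS
    rw [abs_le] at this
    omega
  · have := hB (-i) hiS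
    rw [abs_le] at this
    omega

end Groth.Agent.Lib.Helper5.ExactPair
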